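import Groth.Prelude.Def_Red2
import Mathlib.RingTheory.Bialgebra.MonoidAlgebra
import Mathlib.AlgebraicGeometry.GammaSpecAdjunction

/-! Points of affine groups defined over ℤ and base changed to S, as ring homomorphisms into global functions. -/

universe u

open CategoryTheory MonoidalCategory CartesianMonoidalCategory MonObj GrpObj AlgebraicGeometry Limits
open scoped TensorProduct

noncomputable section

set_option linter.unusedSectionVars false

namespace Groth.Agent.RedPts

abbrev Zu : Type u := ULift.{u} ℤ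

variable {S : Scheme.{u}}

/-- The structure morphism S ⟶ Spec ℤ. -/
abbrev toZ (S : Scheme.{u}) : S ⟶ Spec (CommRingCat.of Zu.{u}) :=
  IsTerminal.from specULiftZIsTerminal S

/-- `A` over `Spec ℤ`. -/
abbrev specA (A : Type u) [CommRing A] [Algebra Zu.{u} A] : Over (Spec (CommRingCat.of Zu.{u})) :=
  (Spec (CommRingCat.of A)).asOver (Spec (CommRingCat.of Zu.{u}))

variable (A : Type u) [CommRing A] [HopfAlgebra Zu.{u} A]

/-- The transpose of an X-point. -/
def transpose {X : Over S} (x : X ⟶ Red.bc (toZ S) (specA A)) : (Over.map (toZ S)).obj X ⟶ specA A :=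
  ((Over.mapPullbackAdj (toZ S)).homEquiv X (specA A)).symm x

lemma transpose_left {X : Over S} (x : X ⟶ Red.bc (toZ S) (specA A)) :
    (transpose A x).left = x.left ≫ pullback.fst _ _ := by
  simp [transpose, Adjunction.homEquiv_counit]

lemma transpose_mul {X : Over S} (x y : X ⟶ Red.bc (toZ S) (specA A)) :
    transpose A (x * y) = transpose A x * transpose A y := by
  apply ((Over.mapPullbackAdj (toZ S)).homEquiv X (specA A)).injective
  conv_lhs => rw [transpose, Equiv.apply_symm_apply]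
  rw [Adjunction.homEquiv_unit, Functor.map_mul, MonObj.comp_mul,
    ← Adjunction.homEquiv_unit, ← Adjunction.homEquiv_unit]
  simp only [transpose, Equiv.apply_symm_apply]

/-- An X-point as a ring homomorphism `A →+* Γ(X)`. -/
def pt {X : Over S} (x : X ⟶ Red.bc (toZ S) (specA A)) : A →+* Γ(X.left, ⊤) :=
  ((Scheme.ΓSpecIso (CommRingCat.of A)).inv ≫ (x.left ≫ pullback.fst _ _).appTop).hom

lemma pt_apply {X : Over S} (x : X ⟶ Red.bc (toZ S) (specA A)) (a : A) :
    pt A x a = (x.left ≫ pullback.fst _ _).appTop ((Scheme.ΓSpecIso (CommRingCat.of A)).inv a) := rfl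

lemma pt_comp {X Y : Over S} (h : Y ⟶ X) (x : X ⟶ Red.bc (toZ S) (specA A)) :
    pt A (h ≫ x) = h.left.appTop.hom.comp (pt A x) := by
  ext a; rfl

lemma eq_toSpecΓ_map {X : Scheme.{u}} (g : X ⟶ Spec (CommRingCat.of A)) :
    g = X.toSpecΓ ≫ Spec.map ((Scheme.ΓSpecIso (CommRingCat.of A)).inv ≫ g.appTop) := by
  rw [Spec.map_comp]
  simp [← Scheme.toSpecΓ_naturality_assoc]

lemma pt_injective {X : Over S} : Function.Injective (pt A (X := X)) := by
  intro x y h
  have h' : CommRingCat.ofHom (pt A x) = CommRingCat.ofHom (pt A y) := congrArg _ h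
  simp only [pt, CommRingCat.ofHom_hom] at h'
  apply Over.OverMorphism.ext
  apply pullback.hom_ext
  · exact (eq_toSpecΓ_map A _).trans ((congrArg (fun m => X.left.toSpecΓ ≫ Spec.map m) h').trans
      (eq_toSpecΓ_map A _).symm)
  · exact (Over.w x).trans (Over.w y).symm

lemma pt_surjective {X : Over S} : Function.Surjective (pt A (X := X)) := by
  intro φ
  let g : X.left ⟶ Spec (CommRingCat.of A) := X.left.toSpecΓ ≫ Spec.map (CommRingCat.ofHom φ)
  refine ⟨Over.homMk (pullback.lift g X.hom (specULiftZIsTerminal.hom_ext _ _))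
    (pullback.lift_snd _ _ _), ?_⟩
  ext a
  have : (Scheme.ΓSpecIso (CommRingCat.of A)).inv ≫ g.appTop = CommRingCat.ofHom φ := by
    simp only [g, Scheme.Hom.comp_appTop, ← Scheme.ΓSpecIso_inv_naturality_assoc,
      Scheme.toSpecΓ_appTop]
    simp
  refine (pt_apply A _ a).trans ?_
  have e : pullback.lift g X.hom (specULiftZIsTerminal.hom_ext _ (X.hom ≫ toZ S)) ≫
      pullback.fst (specA A).hom (toZ S) = g := pullback.lift_fst _ _ _
  exact (congr(($e).appTop _)).trans congr($this a)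

/-- `Γ` as an algebra over `ℤ`. -/
@[implicit_reducible] def algΓ (X : Over S) : Algebra Zu.{u} Γ(X.left, ⊤) :=
  ((Int.castRingHom _).comp ULift.ringEquiv.toRingHom).toAlgebra

attribute [local instance] algΓ
attribute [local instance 10000] Algebra.toSMul Algebra.toModule

lemma scalarTower (B : Type u) [CommRing B] [Algebra Zu.{u} B] : IsScalarTower Zu.{u} Zu.{u} B :=
  ⟨fun r s b => by rw [Algebra.smul_def, Algebra.smul_def, Algebra.smul_def, Algebra.smul_def, Algebra.algebraMap_self, RingHom.id_apply, map_mul]; exact _root_.mul_assoc _ _ _⟩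

attribute [local instance] scalarTower

/-- An X-point as an algebra homomorphism. -/
def ptAlg {X : Over S} (x : X ⟶ Red.bc (toZ S) (specA A)) : A →ₐ[Zu.{u}] Γ(X.left, ⊤) :=
  { pt A x with
    commutes' := fun r => by
      have h := congr($(RingHom.ext_int (((pt A x).comp (algebraMap Zu.{u} A)).comp
        ULift.ringEquiv.symm.toRingHom) (Int.castRingHom _)) r.down)
      exact h }

lemma ptAlg_apply {X : Over S} (x : X ⟶ Red.bc (toZ S) (specA A)) (a : A) :
    ptAlg A x a = pt A x a := rfl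

lemma ptAlg_mul {X : Over S} (x y : X ⟶ Red.bc (toZ S) (specA A)) :
    WithConv.toConv (ptAlg A (x * y)) = WithConv.toConv (ptAlg A x) * WithConv.toConv (ptAlg A y) := by
  let j : (Over.map (toZ S)).obj X ⟶ specA Γ(X.left, ⊤) :=
    Over.homMk X.left.toSpecΓ (specULiftZIsTerminal.hom_ext _ _)
  let e := Spec.mapMulEquiv (R := Zu.{u}) (S := A) (T := Γ(X.left, ⊤))
  have key : ∀ z, transpose A z = j ≫ e (WithConv.toConv (ptAlg A z)) := by
    intro z
    apply Over.OverMorphism.ext
    rw [transpose_left]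
    exact eq_toSpecΓ_map A _
  have h := transpose_mul A x y
  rw [key, key, key, ← MonObj.comp_mul, ← map_mul] at h
  obtain ⟨w, hw⟩ : ∃ w, e.symm (e w) = w ∧ w = WithConv.toConv (ptAlg A x) * WithConv.toConv (ptAlg A y) :=
    ⟨_, e.symm_apply_apply _, rfl⟩
  have h2 := congrArg (fun m => m.left.appTop) h
  apply WithConv.ofConv_injective
  apply AlgHom.ext
  intro a
  have h3 := congr($h2 ((Scheme.ΓSpecIso (CommRingCat.of A)).inv a))
  rw [Over.comp_left, Over.comp_left] at h3
  have aux : ∀ (f : A →ₐ[Zu.{u}] Γ(X.left, ⊤)),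
      (X.left.toSpecΓ ≫ Spec.map (CommRingCat.ofHom f.toRingHom)).appTop
        ((Scheme.ΓSpecIso (CommRingCat.of A)).inv a) = f a := by
    intro f
    have : (Scheme.ΓSpecIso (CommRingCat.of A)).inv ≫
        (X.left.toSpecΓ ≫ Spec.map (CommRingCat.ofHom f.toRingHom)).appTop = CommRingCat.ofHom f.toRingHom := by
      simp [Scheme.toSpecΓ_appTop]
    exact congr($this a)
  exact (aux _).symm.trans (h3.trans (aux _))

lemma pt_mul {X : Over S} (x y : X ⟶ Red.bc (toZ S) (specA A)) (a : A) :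
    pt A (x * y) a =
      Algebra.TensorProduct.lift (ptAlg A x) (ptAlg A y) (fun _ _ => Commute.all _ _)
        (Coalgebra.comul (R := Zu.{u}) a) := by
  have h := congr($(ptAlg_mul A x y).ofConv a)
  rw [AlgHom.convMul_apply] at h
  exact h

lemma pt_mul_primitive {X : Over S} (x y : X ⟶ Red.bc (toZ S) (specA A)) (a : A)
    (ha : Coalgebra.comul (R := Zu.{u}) a = a ⊗ₜ 1 + 1 ⊗ₜ a) :
    pt A (x * y) a = pt A x a + pt A y a := by
  rw [pt_mul, ha]
  simp [ptAlg_apply]

lemma pt_mul_groupLike {X : Over S} (x y : X ⟶ Red.bc (toZ S) (specA A)) (a : A)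
    (ha : Coalgebra.comul (R := Zu.{u}) a = a ⊗ₜ a) :
    pt A (x * y) a = pt A x a * pt A y a := by
  rw [pt_mul, ha]
  simp [ptAlg_apply]

/-! ### The additive group -/

section Ga

abbrev symA : Type u := SymmetricAlgebra Zu.{u} Zu.{u}

variable {X Y : Over S}

lemma gaFn_eq_pt (x : X ⟶ Red.Ga S) :
    Red.gaFn x = pt symA.{u} x (SymmetricAlgebra.ι Zu.{u} Zu.{u} (ULift.up 1)) := rfl

lemma ga_mul (x y : X ⟶ Red.Ga S) : Red.gaFn (x * y) = Red.gaFn x + Red.gaFn y := by
  rw [gaFn_eq_pt, gaFn_eq_pt, gaFn_eq_pt]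
  exact pt_mul_primitive _ x y _ (SymmetricAlgebra.comul_ι _ _ _)

lemma ga_comp (h : Y ⟶ X) (x : X ⟶ Red.Ga S) : Red.gaFn (h ≫ x) = h.left.appTop (Red.gaFn x) := rfl

lemma ga_injective : Function.Injective (Red.gaFn (S := S) (X := X)) := by
  intro x y h
  apply pt_injective symA.{u}
  apply RingHom.ext
  intro a
  induction a using SymmetricAlgebra.induction with
  | algebraMap r => exact ((ptAlg symA.{u} x).commutes r).trans ((ptAlg symA.{u} y).commutes r).symm
  | «ι» m =>
    have hm : m = m • (ULift.up 1 : Zu.{u}) := by ext; simp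
    rw [hm, map_smul, Algebra.smul_def, map_mul, map_mul]
    congr 1
    exact ((ptAlg symA.{u} x).commutes _).trans ((ptAlg symA.{u} y).commutes _).symm
  | mul a b ha hb => rw [map_mul, map_mul, ha, hb]
  | add a b ha hb => rw [map_add, map_add, ha, hb]

lemma ga_surjective : Function.Surjective (Red.gaFn (S := S) (X := X)) := by
  intro c
  obtain ⟨x, hx⟩ := pt_surjective (S := S) symA.{u} (X := X)
    (SymmetricAlgebra.lift (R := Zu.{u}) (M := Zu.{u}) (LinearMap.toSpanSingleton Zu.{u} _ c)).toRingHom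
  refine ⟨x, (gaFn_eq_pt x).trans ?_⟩
  rw [hx]
  simp [LinearMap.toSpanSingleton_apply, Algebra.smul_def]
  exact (congrArg (· * c) (map_one _)).trans (_root_.one_mul c)

end Ga

/-! ### Diagonalisable groups -/

section Gm

variable (M : Type) [AddCommGroup M]

abbrev monA : Type u := MonoidAlgebra Zu.{u} (Multiplicative M)

variable {X Y : Over S} {M}

/-- The function attached to a point of `DS S M` and `m : M`. -/
def dFn (x : X ⟶ Red.DS S M) (m : M) : Γ(X.left, ⊤) :=
  pt (monA.{u} M) x (MonoidAlgebra.single (Multiplicative.ofAdd m) 1)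

lemma gmFn_eq_dFn (x : X ⟶ Red.Gm S) : Red.gmFn x = dFn x 1 := rfl

lemma d_mul (x y : X ⟶ Red.DS S M) (m : M) : dFn (x * y) m = dFn x m * dFn y m := by
  refine pt_mul_groupLike _ x y _ ?_
  simp

lemma d_add (x : X ⟶ Red.DS S M) (m n : M) : dFn x (m + n) = dFn x m * dFn x n := by
  rw [dFn, dFn, dFn, ← map_mul, MonoidAlgebra.single_mul_single, _root_.mul_one, ofAdd_add]

lemma d_zero (x : X ⟶ Red.DS S M) : dFn x 0 = 1 := by
  rw [dFn, ofAdd_zero, ← MonoidAlgebra.one_def, map_one]

lemma d_comp (h : Y ⟶ X) (x : X ⟶ Red.DS S M) (m : M) :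
    dFn (h ≫ x) m = h.left.appTop (dFn x m) := rfl

lemma d_isUnit (x : X ⟶ Red.DS S M) (m : M) : IsUnit (dFn x m) :=
  IsUnit.of_mul_eq_one (dFn x (-m)) (by rw [← d_add, add_neg_cancel, d_zero])

lemma d_ext {x y : X ⟶ Red.DS S M} (h : ∀ m, dFn x m = dFn y m) : x = y := by
  apply pt_injective (monA.{u} M)
  apply MonoidAlgebra.ringHom_ext
  · intro r
    exact ((ptAlg (monA.{u} M) x).commutes r).trans ((ptAlg (monA.{u} M) y).commutes r).symm
  · intro m
    exact h m.toAdd

lemma d_surjective (φ : Multiplicative M →* Γ(X.left, ⊤)) :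
    ∃ x : X ⟶ Red.DS S M, ∀ m, dFn x m = φ (Multiplicative.ofAdd m) := by
  obtain ⟨x, hx⟩ := pt_surjective (S := S) (monA.{u} M) (X := X)
    (MonoidAlgebra.lift Zu.{u} Γ(X.left, ⊤) (Multiplicative M) φ).toRingHom
  refine ⟨x, fun m => ?_⟩
  rw [dFn, hx]
  simp
  exact Algebra.smul_def (R := Zu.{u}) (A := Γ(X.left, ⊤)) _ _ |>.trans (by rw [map_one]; exact _root_.one_mul _)

lemma gm_mul (x y : X ⟶ Red.Gm S) : Red.gmFn (x * y) = Red.gmFn x * Red.gmFn y := d_mul x y 1

lemma gm_comp (h : Y ⟶ X) (x : X ⟶ Red.Gm S) : Red.gmFn (h ≫ x) = h.left.appTop (Red.gmFn x) := rfl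

lemma gm_isUnit (x : X ⟶ Red.Gm S) : IsUnit (Red.gmFn x) := d_isUnit x 1

lemma gm_injective : Function.Injective (Red.gmFn (S := S) (X := X)) := by
  intro x y h
  apply d_ext
  intro m
  induction m with
  | zero => rw [d_zero, d_zero]
  | succ n ih => rw [d_add, d_add, ih]; exact congrArg _ h
  | pred n ih =>
    refine (d_isUnit x 1).mul_right_cancel ?_
    conv_rhs => rw [show dFn x 1 = dFn y 1 from h]
    rw [← d_add, ← d_add]
    simpa using ih

lemma gm_surjective {c : Γ(X.left, ⊤)} (hc : IsUnit c) : ∃ x : X ⟶ Red.Gm S, Red.gmFn x = c := by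
  obtain ⟨v, rfl⟩ := hc
  obtain ⟨x, hx⟩ := d_surjective (S := S) (X := X) ((Units.coeHom _).comp (zpowersHom _ v))
  exact ⟨x, by rw [gmFn_eq_dFn, hx]; simp⟩

variable {N : Type} [AddCommGroup N]

lemma DSmap_fn (x : X ⟶ Red.DS S N) (φ : M →+ N) (m : M) :
    dFn (x ≫ Red.DSmap S φ) m = dFn x (φ m) := by
  have e : (x ≫ Red.DSmap S φ).left ≫ pullback.fst (specA (monA.{u} M)).hom (toZ S) =
      (x.left ≫ pullback.fst _ _) ≫
        Spec.map (CommRingCat.ofHom (MonoidAlgebra.mapDomainAlgHom Zu.{u} Zu.{u}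
          (AddMonoidHom.toMultiplicative φ)).toRingHom) := by
    simp only [Red.DSmap, Over.comp_left, Over.pullback_map_left, Category.assoc]
    erw [pullback.lift_fst]
    rfl
  rw [dFn, pt_apply, e]
  refine (congr($(Scheme.Hom.comp_appTop _ _) _)).trans ?_
  refine congrArg (fun a => (x.left ≫ pullback.fst _ _).appTop a) ?_
  refine (congr($(Scheme.ΓSpecIso_inv_naturality (CommRingCat.ofHom
    (MonoidAlgebra.mapDomainAlgHom Zu.{u} Zu.{u} (AddMonoidHom.toMultiplicative φ)).toRingHom))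
    (MonoidAlgebra.single (Multiplicative.ofAdd m) 1))).symm.trans ?_
  exact congrArg (fun a => (Scheme.ΓSpecIso (CommRingCat.of (monA.{u} N))).inv a)
    (MonoidAlgebra.mapDomain_single ..)

lemma chi_fn (x : X ⟶ Red.DS S M) (m : M) : Red.gmFn (x ≫ Red.chi S m) = dFn x m := by
  rw [gmFn_eq_dFn]
  exact (DSmap_fn x (zmultiplesHom M m) 1).trans (by simp)

end Gm

end Groth.Agent.RedPts
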