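import Mathlib.Algebra.Group.Commute.Defs
import Mathlib.Tactic

/-! The group theoretic calculus of a rank one system (SGA3 XX). -/

namespace Groth.Agent.RedPts

/-- A rank one system on points over a ring `R`. -/
structure Rk1 (R G T : Type*) [CommRing R] [Group G] [Group T] where
  it : T →* G
  χ : T →* Rˣ
  av : Rˣ →* T
  χav : ∀ z, χ (av z) = z ^ 2
  P : R → G
  M : R → G
  P_add : ∀ a b, P (a + b) = P a * P b
  M_add : ∀ a b, M (a + b) = M a * M b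
  conjP : ∀ t x, it t * P x * (it t)⁻¹ = P (χ t * x)
  conjM : ∀ t y, it t * M y * (it t)⁻¹ = M (↑(χ t)⁻¹ * y)
  rule : ∀ x y (u : Rˣ), (u : R) = 1 + x * y →
    P x * M y = M (↑u⁻¹ * y) * it (av u) * P (↑u⁻¹ * x)

namespace Rk1

variable {R G T : Type*} [CommRing R] [Group G] [Group T] (D : Rk1 R G T)

/-- The coroot. -/
def h : Rˣ →* G := D.it.comp D.av

lemma h_apply (z : Rˣ) : D.h z = D.it (D.av z) := rfl

lemma P_zero : D.P 0 = 1 := mul_eq_left.mp ((D.P_add 0 0).symm.trans (by rw [add_zero]))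

lemma M_zero : D.M 0 = 1 := mul_eq_left.mp ((D.M_add 0 0).symm.trans (by rw [add_zero]))

lemma P_neg (a : R) : D.P (-a) = (D.P a)⁻¹ :=
  eq_inv_of_mul_eq_one_left (by rw [← D.P_add, neg_add_cancel, D.P_zero])

lemma M_neg (a : R) : D.M (-a) = (D.M a)⁻¹ :=
  eq_inv_of_mul_eq_one_left (by rw [← D.M_add, neg_add_cancel, D.M_zero])

lemma it_P (t : T) (x : R) : D.it t * D.P x = D.P (D.χ t * x) * D.it t := by
  rw [← D.conjP]; group

lemma it_M (t : T) (y : R) : D.it t * D.M y = D.M (↑(D.χ t)⁻¹ * y) * D.it t := by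
  rw [← D.conjM]; group

lemma P_it (t : T) (x : R) : D.P x * D.it t = D.it t * D.P (↑(D.χ t)⁻¹ * x) := by
  rw [D.it_P, Units.mul_inv_cancel_left]

lemma h_P (z : Rˣ) (x : R) : D.h z * D.P x = D.P ((z : R) ^ 2 * x) * D.h z := by
  rw [h_apply, D.it_P, D.χav, Units.val_pow_eq_pow_val]

lemma h_M (z : Rˣ) (y : R) : D.h z * D.M y = D.M ((↑z⁻¹ : R) ^ 2 * y) * D.h z := by
  rw [h_apply, D.it_M, D.χav, ← inv_pow, Units.val_pow_eq_pow_val]

lemma rule' (x y : R) (u : Rˣ) (hu : (u : R) = 1 + x * y) :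
    D.M y * D.P x = D.P (↑u⁻¹ * x) * (D.h u)⁻¹ * D.M (↑u⁻¹ * y) := by
  have e := congrArg Inv.inv (D.rule (-x) (-y) u (by rw [hu]; ring))
  simp only [mul_inv_rev, D.P_neg, D.M_neg, inv_inv, mul_neg] at e
  rw [e, h_apply, mul_assoc]

/-- The product of two elements of the big cell. -/
lemma cell_mul (y x y' x' : R) (t t' : T) (u : Rˣ) (hu : (u : R) = 1 + x * y') :
    (D.M y * D.it t * D.P x) * (D.M y' * D.it t' * D.P x') =
      D.M (y + ↑(D.χ t)⁻¹ * (↑u⁻¹ * y')) * D.it (t * D.av u * t') *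
        D.P (↑(D.χ t')⁻¹ * (↑u⁻¹ * x) + x') := by
  calc (D.M y * D.it t * D.P x) * (D.M y' * D.it t' * D.P x')
      = D.M y * D.it t * (D.P x * D.M y') * D.it t' * D.P x' := by group
    _ = D.M y * (D.it t * D.M (↑u⁻¹ * y')) * D.h u * (D.P (↑u⁻¹ * x) * D.it t') * D.P x' := by
        rw [D.rule x y' u hu, h_apply]; group
    _ = _ := by rw [D.it_M, D.P_it, D.M_add, D.P_add, map_mul, map_mul, h_apply]; group

/-- The coroot through the root groups. -/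
lemma coroot (z : Rˣ) :
    D.h z = D.M (↑z⁻¹ - 1) * D.P 1 * D.M ((z : R) - 1) * D.P (-↑z⁻¹) := by
  have e := D.rule 1 ((z : R) - 1) z (by ring)
  rw [show (↑z⁻¹ : R) - 1 = -(↑z⁻¹ * ((z : R) - 1)) by
    rw [mul_sub, Units.inv_mul, mul_one, neg_sub], mul_assoc (D.M _) (D.P 1), e, D.M_neg, D.P_neg,
    mul_one, h_apply]
  group

/-- The Weyl element. -/
def w (x : Rˣ) : G := D.P x * D.M (-↑x⁻¹) * D.P x

lemma w_neg (x : Rˣ) : D.w (-x) = (D.w x)⁻¹ := by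
  simp only [w, Units.val_neg, inv_neg, D.P_neg, D.M_neg, mul_inv_rev, inv_inv]
  group

lemma w_mul_left (z x : Rˣ) : D.w (z * x) = D.h z * D.w x := by
  have e := D.rule (((z * x : Rˣ) : R) * (1 - z)) (-↑(z * x)⁻¹) z (by
    rw [show ((z * x : Rˣ) : R) * (1 - z) * -↑(z * x)⁻¹ = -((1 - (z : R)) * ((z * x : Rˣ) * ↑(z * x)⁻¹)) by ring,
      Units.mul_inv]
    ring)
  rw [← h_apply] at e
  have h1 : (↑z⁻¹ : R) * (((z * x : Rˣ) : R) * (1 - z)) = (x : R) - (z * x : Rˣ) := by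
    rw [Units.val_mul, mul_assoc, Units.inv_mul_cancel_left]; ring
  have h2 : (↑z⁻¹ : R) * -↑(z * x)⁻¹ = (↑z⁻¹ : R) ^ 2 * -↑x⁻¹ := by
    rw [mul_inv, Units.val_mul]; ring
  have hs : D.P ((z * x : Rˣ) : R) =
      D.P ((z : R) ^ 2 * x) * D.P (((z * x : Rˣ) : R) * (1 - z)) := by
    rw [← D.P_add]; congr 1; rw [Units.val_mul]; ring
  calc D.w (z * x) = D.P ((z : R) ^ 2 * x) * (D.P (((z * x : Rˣ) : R) * (1 - z)) * D.M (-↑(z * x)⁻¹)) *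
        D.P ((z * x : Rˣ) : R) := by rw [w]; conv_lhs => arg 1; arg 1; rw [hs]
                                     group
    _ = D.P ((z : R) ^ 2 * x) * D.M ((↑z⁻¹ : R) ^ 2 * -↑x⁻¹) * D.h z * D.P (x : R) := by
        rw [e, h1, h2]
        have : D.P ((x : R) - (z * x : Rˣ)) * D.P ((z * x : Rˣ) : R) = D.P (x : R) := by
          rw [← D.P_add, sub_add_cancel]
        rw [← this]; group
    _ = D.P ((z : R) ^ 2 * x) * D.h z * D.M (-↑x⁻¹) * D.P (x : R) := by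
        rw [mul_assoc (D.P _) (D.M _), ← D.h_M]; group
    _ = D.h z * D.w x := by rw [← D.h_P, w]; group

lemma it_w (t : T) (x : Rˣ) : D.it t * D.w x * (D.it t)⁻¹ = D.w (D.χ t * x) := by
  have : D.it t * D.w x * (D.it t)⁻¹ = (D.it t * D.P x * (D.it t)⁻¹) *
      (D.it t * D.M (-↑x⁻¹) * (D.it t)⁻¹) * (D.it t * D.P x * (D.it t)⁻¹) := by
    rw [w]; group
  rw [this, D.conjP, D.conjM, w, mul_inv, Units.val_mul, Units.val_mul, mul_neg]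

lemma w_conj_it (t : T) (x : Rˣ) :
    D.w x * D.it t * (D.w x)⁻¹ = (D.h (D.χ t))⁻¹ * D.it t := by
  have e := D.it_w t x
  rw [D.w_mul_left] at e
  apply inv_injective
  simp only [mul_inv_rev, inv_inv]
  calc D.w x * ((D.it t)⁻¹ * (D.w x)⁻¹)
      = (D.it t)⁻¹ * (D.it t * D.w x * (D.it t)⁻¹) * (D.w x)⁻¹ := by group
    _ = (D.it t)⁻¹ * D.h (D.χ t) := by rw [e]; group

lemma w_mul_right (z x : Rˣ) : D.w (z * x) = D.w x * (D.h z)⁻¹ := by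
  have e := D.rule' (((z * x : Rˣ) : R) * (1 - z)) (-↑(z * x)⁻¹) z (by
    rw [show ((z * x : Rˣ) : R) * (1 - z) * -↑(z * x)⁻¹ = -((1 - (z : R)) * ((z * x : Rˣ) * ↑(z * x)⁻¹)) by ring,
      Units.mul_inv]
    ring)
  have h1 : (↑z⁻¹ : R) * (((z * x : Rˣ) : R) * (1 - z)) = (x : R) - (z * x : Rˣ) := by
    rw [Units.val_mul, mul_assoc, Units.inv_mul_cancel_left]; ring
  have h2 : (↑z⁻¹ : R) * -↑(z * x)⁻¹ = (↑z⁻¹ : R) ^ 2 * -↑x⁻¹ := by
    rw [mul_inv, Units.val_mul]; ring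
  have hs : D.P ((z * x : Rˣ) : R) =
      D.P (((z * x : Rˣ) : R) * (1 - z)) * D.P ((z : R) ^ 2 * x) := by
    rw [← D.P_add]; congr 1; rw [Units.val_mul]; ring
  have hM : D.M (-↑x⁻¹) * (D.h z)⁻¹ = (D.h z)⁻¹ * D.M ((↑z⁻¹ : R) ^ 2 * -↑x⁻¹) := by
    rw [eq_inv_mul_iff_mul_eq, ← mul_assoc, D.h_M]; group
  have hP : D.P (x : R) * (D.h z)⁻¹ = (D.h z)⁻¹ * D.P ((z : R) ^ 2 * x) := by
    rw [eq_inv_mul_iff_mul_eq, ← mul_assoc, D.h_P]; group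
  calc D.w (z * x) = D.P ((z * x : Rˣ) : R) * (D.M (-↑(z * x)⁻¹) * D.P (((z * x : Rˣ) : R) * (1 - z))) *
        D.P ((z : R) ^ 2 * x) := by rw [w]; conv_lhs => arg 2; rw [hs]
                                    group
    _ = D.P (x : R) * (D.h z)⁻¹ * D.M ((↑z⁻¹ : R) ^ 2 * -↑x⁻¹) * D.P ((z : R) ^ 2 * x) := by
        rw [e, h1, h2]
        have : D.P ((z * x : Rˣ) : R) * D.P ((x : R) - (z * x : Rˣ)) = D.P (x : R) := by
          rw [← D.P_add, add_sub_cancel]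
        rw [← this]; group
    _ = D.P (x : R) * D.M (-↑x⁻¹) * (D.h z)⁻¹ * D.P ((z : R) ^ 2 * x) := by
        rw [mul_assoc (D.P (x : R)) (D.M _), hM]; group
    _ = D.w x * (D.h z)⁻¹ := by rw [mul_assoc _ _ (D.P ((z : R) ^ 2 * x)), ← hP, w]; group

lemma w_sq (x : Rˣ) : D.w x * D.w x = D.h (-1) := by
  have e := D.w_mul_right (-1) x
  rw [neg_one_mul, D.w_neg] at e
  calc D.w x * D.w x = D.w x * (D.w x * (D.h (-1))⁻¹) * D.h (-1) := by group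
    _ = D.h (-1) := by rw [← e]; group

lemma w_mul_w (x y : Rˣ) : D.w x * D.w y = D.h (-(x * y⁻¹)) := by
  rw [show x = (x * y⁻¹) * y by group, D.w_mul_left, mul_assoc, D.w_sq, ← map_mul]
  congr 1
  rw [inv_mul_cancel_right]
  ext; simp

/-- `w(a)` exchanges the two root groups, when `1 - c/a` is a unit. -/
lemma w_conj_P_of_unit (a u : Rˣ) (c : R) (hu : (u : R) = 1 - c * ↑a⁻¹) :
    D.w a * D.P c * (D.w a)⁻¹ = D.M (-((↑a⁻¹ : R) ^ 2 * c)) := by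
  have e1 := D.rule' c (-↑a⁻¹) u (by rw [hu]; ring)
  have e2 := D.rule' (a : R) (-((↑a⁻¹ : R) ^ 2 * c)) u (by
    rw [hu, show (a : R) * -((↑a⁻¹ : R) ^ 2 * c) = -(((a : R) * ↑a⁻¹) * ↑a⁻¹ * c) by ring,
      Units.mul_inv]
    ring)
  have h1 : (↑u⁻¹ : R) * -((↑a⁻¹ : R) ^ 2 * c) + -↑a⁻¹ = ↑u⁻¹ * -↑a⁻¹ := by
    apply u.isUnit.mul_left_cancel
    rw [mul_add, Units.mul_inv_cancel_left, Units.mul_inv_cancel_left, hu]
    ring
  have h2 : (a : R) + ↑u⁻¹ * c = ↑u⁻¹ * a := by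
    apply u.isUnit.mul_left_cancel
    rw [mul_add, Units.mul_inv_cancel_left, Units.mul_inv_cancel_left, hu, sub_mul, mul_assoc,
      Units.inv_mul]
    ring
  have key : D.P (a : R) * (D.M (-↑a⁻¹) * D.P c) =
      (D.M (-((↑a⁻¹ : R) ^ 2 * c)) * D.P a) * D.M (-↑a⁻¹) := by
    rw [e1, e2]
    calc D.P (a : R) * (D.P (↑u⁻¹ * c) * (D.h u)⁻¹ * D.M (↑u⁻¹ * -↑a⁻¹))
        = (D.P (a : R) * D.P (↑u⁻¹ * c)) * (D.h u)⁻¹ * D.M (↑u⁻¹ * -↑a⁻¹) := by group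
      _ = D.P (↑u⁻¹ * a) * (D.h u)⁻¹ *
          (D.M (↑u⁻¹ * -((↑a⁻¹ : R) ^ 2 * c)) * D.M (-↑a⁻¹)) := by
            rw [← D.P_add, ← D.M_add, h1, h2]
      _ = _ := by group
  calc D.w a * D.P c * (D.w a)⁻¹
      = D.P (a : R) * D.M (-↑a⁻¹) * (D.P a * D.P c) * (D.w a)⁻¹ := by rw [w]; group
    _ = (D.P (a : R) * (D.M (-↑a⁻¹) * D.P c)) * D.P a * (D.w a)⁻¹ := by
        rw [← D.P_add, add_comm, D.P_add]; group
    _ = D.M (-((↑a⁻¹ : R) ^ 2 * c)) * D.w a * (D.w a)⁻¹ := by rw [key, w]; group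
    _ = _ := by group

variable {x : Rˣ}

lemma braid (hx : D.w x * D.P x * (D.w x)⁻¹ = D.M (-↑x⁻¹)) :
    D.M (-↑x⁻¹) * D.P x * D.M (-↑x⁻¹) = D.w x := by
  have e : D.w x * D.P x = D.M (-↑x⁻¹) * D.w x := by rw [← hx]; group
  rw [w] at e ⊢
  calc D.M (-↑x⁻¹) * D.P x * D.M (-↑x⁻¹)
      = (D.M (-↑x⁻¹) * (D.P x * D.M (-↑x⁻¹) * D.P x)) * (D.P x)⁻¹ := by group
    _ = _ := by rw [← e]; group

lemma cube (hx : D.w x * D.P x * (D.w x)⁻¹ = D.M (-↑x⁻¹)) : (D.w x * D.P x) ^ 3 = 1 := by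
  have e : D.w x * D.P x = D.M (-↑x⁻¹) * D.w x := by rw [← hx]; group
  have hc : D.h (-1) * D.M (-↑x⁻¹) = D.M (-↑x⁻¹) * D.h (-1) := by
    rw [D.h_M]; simp
  calc (D.w x * D.P x) ^ 3 = (D.M (-↑x⁻¹) * (D.w x * D.w x)) * D.P x * (D.w x * D.P x) := by
        rw [pow_succ', pow_two]; nth_rw 1 [e]; group
    _ = D.h (-1) * (D.M (-↑x⁻¹) * D.P x * D.M (-↑x⁻¹)) * D.w x := by
        rw [D.w_sq, ← hc, e]; group
    _ = 1 := by rw [D.braid hx, mul_assoc, D.w_sq, ← map_mul]; simp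

end Rk1

end Groth.Agent.RedPts
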