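import Groth.Agent.RedPts.Basic
import Groth.Agent.RedPts.Calc
import Mathlib.RingTheory.AdjoinRoot
import Mathlib.AlgebraicGeometry.Morphisms.Flat
import Mathlib.AlgebraicGeometry.Morphisms.Finite

/-! A rank one system over S as systems on points. -/

universe u

open CategoryTheory MonoidalCategory CartesianMonoidalCategory MonObj GrpObj AlgebraicGeometry Limits
open Groth.Agent.RedPts

noncomputable section

namespace Groth.Agent.RedPts

/-- The data of the rank one statements. -/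
structure Sys (S : Scheme.{u}) (G T : Over S) [GrpObj G] [GrpObj T] where
  i : T ⟶ G
  α : T ⟶ Red.Gm S
  av : Red.Gm S ⟶ T
  pp : Red.Ga S ⟶ G
  pm : Red.Ga S ⟶ G
  [hi : IsMonHom i]
  [hα : IsMonHom α]
  [hav : IsMonHom av]
  [hp : IsMonHom pp]
  [hm : IsMonHom pm]
  hpp : ∀ (X : Over S) (t : X ⟶ T) (x : X ⟶ Red.Ga S), ∃ x' : X ⟶ Red.Ga S,
      x' ≫ pp = (t ≫ i) * (x ≫ pp) * (t ≫ i)⁻¹ ∧ Red.gaFn x' = Red.gmFn (t ≫ α) * Red.gaFn x
  hpm : ∀ (X : Over S) (t : X ⟶ T) (y : X ⟶ Red.Ga S), ∃ y' : X ⟶ Red.Ga S,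
      y' ≫ pm = (t ≫ i) * (y ≫ pm) * (t ≫ i)⁻¹ ∧ Red.gaFn y' * Red.gmFn (t ≫ α) = Red.gaFn y
  h2 : av ≫ α = (𝟙 (Red.Gm S)) ^ 2
  hF : ∀ (X : Over S) (x y : X ⟶ Red.Ga S), IsUnit (1 + Red.gaFn x * Red.gaFn y) →
      ∃ (x' y' : X ⟶ Red.Ga S) (z : X ⟶ Red.Gm S), Red.gmFn z = 1 + Red.gaFn x * Red.gaFn y ∧
        Red.gaFn x' * Red.gmFn z = Red.gaFn x ∧ Red.gaFn y' * Red.gmFn z = Red.gaFn y ∧
        (x ≫ pp) * (y ≫ pm) = (y' ≫ pm) * (z ≫ av ≫ i) * (x' ≫ pp)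

variable {S : Scheme.{u}}

/-- The point of 𝔾_a with given function. -/
def gaPt {X : Over S} (a : Γ(X.left, ⊤)) : X ⟶ Red.Ga S := (ga_surjective a).choose

lemma gaFn_gaPt {X : Over S} (a : Γ(X.left, ⊤)) : Red.gaFn (gaPt (S := S) a) = a :=
  (ga_surjective a).choose_spec

lemma gaPt_gaFn {X : Over S} (x : X ⟶ Red.Ga S) : gaPt (Red.gaFn x) = x :=
  ga_injective (gaFn_gaPt _)

lemma gaPt_add {X : Over S} (a b : Γ(X.left, ⊤)) : gaPt (S := S) (a + b) = gaPt a * gaPt b :=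
  ga_injective (by rw [ga_mul, gaFn_gaPt, gaFn_gaPt, gaFn_gaPt])

lemma gaPt_comp {X Y : Over S} (h : Y ⟶ X) (a : Γ(X.left, ⊤)) :
    h ≫ gaPt (S := S) a = gaPt (h.left.appTop a) :=
  ga_injective (by rw [ga_comp, gaFn_gaPt, gaFn_gaPt])

/-- The point of 𝔾_m with given function. -/
def gmPt {X : Over S} (a : (Γ(X.left, ⊤))ˣ) : X ⟶ Red.Gm S := (gm_surjective a.isUnit).choose

lemma gmFn_gmPt {X : Over S} (a : (Γ(X.left, ⊤))ˣ) : Red.gmFn (gmPt (S := S) a) = a :=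
  (gm_surjective a.isUnit).choose_spec

lemma gmPt_mul {X : Over S} (a b : (Γ(X.left, ⊤))ˣ) : gmPt (S := S) (a * b) = gmPt a * gmPt b :=
  gm_injective (by rw [gm_mul, gmFn_gmPt, gmFn_gmPt, gmFn_gmPt, Units.val_mul])

/-- The unit defined by a point of 𝔾_m. -/
def gmU {X : Over S} (z : X ⟶ Red.Gm S) : (Γ(X.left, ⊤))ˣ := (gm_isUnit z).unit

lemma gmU_val {X : Over S} (z : X ⟶ Red.Gm S) : (gmU z : Γ(X.left, ⊤)) = Red.gmFn z := rfl

lemma gmPt_gmU {X : Over S} (z : X ⟶ Red.Gm S) : gmPt (gmU z) = z :=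
  gm_injective (gmFn_gmPt _)

namespace Sys

variable {G T : Over S} [GrpObj G] [GrpObj T] (D : Sys S G T)

attribute [local instance] Sys.hi Sys.hα Sys.hav Sys.hp Sys.hm

/-- The system on X-points. -/
def rk (X : Over S) : Rk1 Γ(X.left, ⊤) (X ⟶ G) (X ⟶ T) where
  it := MonoidHom.mk' (fun t => t ≫ D.i) (fun _ _ => MonObj.mul_comp _ _ _)
  χ := MonoidHom.mk' (fun t => gmU (t ≫ D.α)) (fun a b => Units.ext (by
    simp only [Units.val_mul, gmU_val, MonObj.mul_comp, gm_mul]))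
  av := MonoidHom.mk' (fun z => gmPt z ≫ D.av) (fun a b => by rw [gmPt_mul, MonObj.mul_comp])
  χav z := Units.ext (by
    simp only [MonoidHom.mk'_apply, gmU_val, Category.assoc, D.h2, Units.val_pow_eq_pow_val]
    rw [MonObj.comp_pow, Category.comp_id, pow_two, gm_mul, gmFn_gmPt, pow_two])
  P a := gaPt a ≫ D.pp
  M a := gaPt a ≫ D.pm
  P_add a b := by rw [gaPt_add, MonObj.mul_comp]
  M_add a b := by rw [gaPt_add, MonObj.mul_comp]
  conjP t x := by
    obtain ⟨x', h1, h2⟩ := D.hpp X t (gaPt x)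
    simp only [MonoidHom.mk'_apply, gmU_val]
    rw [← h1, ← gaPt_gaFn x', h2, gaFn_gaPt]
  conjM t y := by
    obtain ⟨y', h1, h2⟩ := D.hpm X t (gaPt y)
    simp only [MonoidHom.mk'_apply]
    rw [← h1, ← gaPt_gaFn y']
    congr 2
    rw [gaFn_gaPt] at h2
    rw [← h2, ← gmU_val, mul_comm (Red.gaFn y'), Units.inv_mul_cancel_left]
  rule x y v hv := by
    obtain ⟨x', y', z, hz, hx', hy', e⟩ := D.hF X (gaPt x) (gaPt y) (by
      rw [gaFn_gaPt, gaFn_gaPt, ← hv]; exact v.isUnit)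
    rw [gaFn_gaPt] at hx' hy'
    rw [gaFn_gaPt, gaFn_gaPt, ← hv] at hz
    rw [hz] at hx' hy'
    have hz' : gmPt v = z := gm_injective (by rw [gmFn_gmPt, hz])
    have hx'' : gaPt ((↑v⁻¹ : Γ(X.left, ⊤)) * x) = x' := ga_injective (by
      rw [gaFn_gaPt, ← hx', mul_comm (Red.gaFn x'), Units.inv_mul_cancel_left])
    have hy'' : gaPt ((↑v⁻¹ : Γ(X.left, ⊤)) * y) = y' := ga_injective (by
      rw [gaFn_gaPt, ← hy', mul_comm (Red.gaFn y'), Units.inv_mul_cancel_left])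
    simp only [MonoidHom.mk'_apply, Category.assoc]
    rw [e, hz', hx'', hy'']

variable {X : Over S}

lemma pp_eq (x : X ⟶ Red.Ga S) : x ≫ D.pp = (D.rk X).P (Red.gaFn x) := by
  show _ = gaPt _ ≫ D.pp
  rw [gaPt_gaFn]

lemma pm_eq (x : X ⟶ Red.Ga S) : x ≫ D.pm = (D.rk X).M (Red.gaFn x) := by
  show _ = gaPt _ ≫ D.pm
  rw [gaPt_gaFn]

lemma i_eq (t : X ⟶ T) : t ≫ D.i = (D.rk X).it t := rfl

lemma av_eq (z : X ⟶ Red.Gm S) : z ≫ D.av = (D.rk X).av (gmU z) := by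
  show _ = gmPt _ ≫ D.av
  rw [gmPt_gmU]

lemma avi_eq (z : X ⟶ Red.Gm S) : z ≫ D.av ≫ D.i = (D.rk X).h (gmU z) := by
  rw [← Category.assoc, D.av_eq]; rfl

lemma χ_val (t : X ⟶ T) : ((D.rk X).χ t : Γ(X.left, ⊤)) = Red.gmFn (t ≫ D.α) := rfl

lemma αavi_eq (t : X ⟶ T) : t ≫ D.α ≫ D.av ≫ D.i = (D.rk X).h ((D.rk X).χ t) := by
  rw [← Category.assoc, D.avi_eq]; rfl

lemma comp_w {Y : Over S} (h : Y ⟶ X) (x : (Γ(X.left, ⊤))ˣ) :
    h ≫ (D.rk X).w x = (D.rk Y).w (Units.map h.left.appTop.hom.toMonoidHom x) := by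
  show h ≫ ((gaPt _ ≫ D.pp) * (gaPt _ ≫ D.pm) * (gaPt _ ≫ D.pp)) =
    (gaPt _ ≫ D.pp) * (gaPt _ ≫ D.pm) * (gaPt _ ≫ D.pp)
  simp only [MonObj.comp_mul, ← Category.assoc, gaPt_comp, map_neg, ← map_inv]
  rfl

lemma comp_P {Y : Over S} (h : Y ⟶ X) (c : Γ(X.left, ⊤)) :
    h ≫ (D.rk X).P c = (D.rk Y).P (h.left.appTop c) := by
  show h ≫ gaPt _ ≫ D.pp = gaPt _ ≫ D.pp
  rw [← Category.assoc, gaPt_comp]

lemma comp_M {Y : Over S} (h : Y ⟶ X) (c : Γ(X.left, ⊤)) :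
    h ≫ (D.rk X).M c = (D.rk Y).M (h.left.appTop c) := by
  show h ≫ gaPt _ ≫ D.pm = gaPt _ ≫ D.pm
  rw [← Category.assoc, gaPt_comp]

end Sys

/-- Any element is a sum of two elements avoiding 1, after a finite free covering. -/
lemma exists_cover (X : Scheme.{u}) (k : Γ(X, ⊤)) :
    ∃ (Y : Scheme.{u}) (p : Y ⟶ X) (s : Γ(Y, ⊤)), Flat p ∧ Surjective p ∧ QuasiCompact p ∧
      IsUnit (1 - s) ∧ IsUnit (1 - (p.appTop k - s)) := by
  let R := Γ(X, ⊤)
  let f : Polynomial R := (Polynomial.X - Polynomial.C 1) * (Polynomial.X - Polynomial.C (k - 1)) +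
    Polynomial.C 1
  have hdeg : (Polynomial.C (1 : R)).degree <
      ((Polynomial.X - Polynomial.C 1) * (Polynomial.X - Polynomial.C (k - 1))).degree ∨ Subsingleton R := by
    rcases subsingleton_or_nontrivial R with h | h
    · exact Or.inr h
    · left
      rw [(Polynomial.monic_X_sub_C (k - 1 : R)).degree_mul, Polynomial.degree_X_sub_C,
        Polynomial.degree_X_sub_C]
      exact Polynomial.degree_C_le.trans_lt (by decide)
  have hf : f.Monic := by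
    rcases hdeg with h | h
    · exact ((Polynomial.monic_X_sub_C _).mul (Polynomial.monic_X_sub_C _)).add_of_left h
    · exact Subsingleton.elim _ _
  let R' := AdjoinRoot f
  have : Module.Free R R' := hf.free_adjoinRoot
  have : Module.Finite R R' := hf.finite_adjoinRoot
  let φ : R →+* R' := AdjoinRoot.of f
  have hflat : Flat (Spec.map (CommRingCat.ofHom φ)) :=
    HasRingHomProperty.Spec_iff.mpr (RingHom.flat_algebraMap_iff.mpr inferInstance : (algebraMap R R').Flat)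
  have hfin : IsFinite (Spec.map (CommRingCat.ofHom φ)) :=
    (IsFinite.SpecMap_iff _).mpr (RingHom.finite_algebraMap.mpr inferInstance : (algebraMap R R').Finite)
  have hsurj : Surjective (Spec.map (CommRingCat.ofHom φ)) := by
    constructor
    rcases subsingleton_or_nontrivial R with h | h
    · intro a; exact (IsEmpty.false (α := PrimeSpectrum R) a).elim
    · have hd : f.natDegree = 2 := by
        apply Polynomial.natDegree_eq_of_degree_eq_some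
        rw [show f = (Polynomial.X - Polynomial.C 1) * (Polynomial.X - Polynomial.C (k - 1)) + Polynomial.C 1 from rfl,
          Polynomial.degree_add_eq_left_of_degree_lt (hdeg.resolve_right (not_subsingleton R)),
          (Polynomial.monic_X_sub_C (k - 1 : R)).degree_mul, Polynomial.degree_X_sub_C,
          Polynomial.degree_X_sub_C]
        rfl
      have : Nontrivial R' := nontrivial_of_ne _ _
        ((AdjoinRoot.powerBasis' hf).basis.ne_zero ⟨0, by rw [AdjoinRoot.powerBasis'_dim, hd]; omega⟩)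
      exact fun a => PrimeSpectrum.comap_surjective_of_faithfullyFlat (B := R') a
  let Y := pullback X.toSpecΓ (Spec.map (CommRingCat.ofHom φ))
  let p : Y ⟶ X := pullback.fst _ _
  let g : CommRingCat.of R' ⟶ Γ(Y, ⊤) :=
    (Scheme.ΓSpecIso (CommRingCat.of R')).inv ≫ (pullback.snd X.toSpecΓ (Spec.map (CommRingCat.ofHom φ))).appTop
  have hg : CommRingCat.ofHom φ ≫ g = p.appTop := by
    have := congrArg Scheme.Hom.appTop (pullback.condition (f := X.toSpecΓ) (g := Spec.map (CommRingCat.ofHom φ)))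
    rw [Scheme.Hom.comp_appTop, Scheme.Hom.comp_appTop, Scheme.toSpecΓ_appTop] at this
    rw [← cancel_epi (Scheme.ΓSpecIso R).hom]
    refine Eq.trans ?_ this.symm
    simp [g, Scheme.ΓSpecIso_inv_naturality_assoc]
    exact Iso.hom_inv_id_assoc (Scheme.ΓSpecIso R) _
  have key : ((AdjoinRoot.root f) - 1) * (AdjoinRoot.root f - (φ k - 1)) + 1 = 0 := by
    have := AdjoinRoot.eval₂_root f
    simpa [f, φ, Polynomial.eval₂_mul] using this
  refine ⟨Y, p, g (AdjoinRoot.root f), inferInstance, inferInstance, inferInstance, ?_, ?_⟩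
  · rw [show (1 : Γ(Y, ⊤)) - g (AdjoinRoot.root f) = g (1 - AdjoinRoot.root f) by simp]
    refine IsUnit.map g.hom (IsUnit.of_mul_eq_one (AdjoinRoot.root f - (φ k - 1)) ?_)
    linear_combination (-1 : R') * key
  · rw [show p.appTop k = g (φ k) from congr($hg.symm k),
      show (1 : Γ(Y, ⊤)) - (g (φ k) - g (AdjoinRoot.root f)) = g (1 - (φ k - AdjoinRoot.root f)) by simp]
    refine IsUnit.map g.hom (IsUnit.of_mul_eq_one (1 - AdjoinRoot.root f) ?_)
    linear_combination (-1 : R') * key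

namespace Sys

variable {G T : Over S} [GrpObj G] [GrpObj T] (D : Sys S G T) {X : Over S}

lemma w_conj_P (a : (Γ(X.left, ⊤))ˣ) (c : Γ(X.left, ⊤)) :
    (D.rk X).w a * (D.rk X).P c * ((D.rk X).w a)⁻¹ = (D.rk X).M (-((↑a⁻¹ : Γ(X.left, ⊤)) ^ 2 * c)) := by
  obtain ⟨Y, p, s, _, _, _, h1, h2⟩ := exists_cover X.left (c * ↑a⁻¹)
  let pY : Over.mk (p ≫ X.hom) ⟶ X := Over.homMk p
  have : Epi pY := by
    have : Epi p := Flat.epi_of_flat_of_surjective p
    have : Epi pY.left := this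
    exact Over.epi_of_epi_left pY
  rw [← cancel_epi pY]
  simp only [MonObj.comp_mul, GrpObj.comp_inv, D.comp_w, D.comp_P, D.comp_M]
  set b : (Γ(Y, ⊤))ˣ := Units.map p.appTop.hom.toMonoidHom a with hb
  have hs : p.appTop c = (b : Γ(Y, ⊤)) * s + (b : Γ(Y, ⊤)) * (p.appTop (c * ↑a⁻¹) - s) := by
    rw [← mul_add, add_sub_cancel, hb, map_mul]
    show _ = p.appTop (a : Γ(X.left, ⊤)) * _
    rw [← map_mul, ← map_mul]
    congr 1
    rw [mul_left_comm, Units.mul_inv, _root_.mul_one]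
  change (D.rk (Over.mk (p ≫ X.hom))).w b * (D.rk (Over.mk (p ≫ X.hom))).P (p.appTop c) *
      ((D.rk (Over.mk (p ≫ X.hom))).w b)⁻¹ = (D.rk (Over.mk (p ≫ X.hom))).M (p.appTop _)
  rw [show p.appTop (-((↑a⁻¹ : Γ(X.left, ⊤)) ^ 2 * c)) = -((↑b⁻¹ : Γ(Y, ⊤)) ^ 2 * p.appTop c) by
    simp [hb, map_mul, map_pow], hs, Rk1.P_add]
  have e1 := (D.rk (Over.mk (p ≫ X.hom))).w_conj_P_of_unit b h1.unit ((b : Γ(Y, ⊤)) * s) (by
    rw [IsUnit.unit_spec, _root_.mul_comm (b : Γ(Y, ⊤)) s, _root_.mul_assoc, Units.mul_inv, _root_.mul_one])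
  have e2 := (D.rk (Over.mk (p ≫ X.hom))).w_conj_P_of_unit b h2.unit
    ((b : Γ(Y, ⊤)) * (p.appTop (c * ↑a⁻¹) - s)) (by
    rw [IsUnit.unit_spec, _root_.mul_comm (b : Γ(Y, ⊤)) (p.appTop (c * ↑a⁻¹) - s), _root_.mul_assoc, Units.mul_inv,
      _root_.mul_one])
  refine (conj_mul ..).symm.trans ((congrArg₂ (· * ·) e1 e2).trans ?_)
  rw [← Rk1.M_add]
  congr 1
  ring

lemma w_conj_self (a : (Γ(X.left, ⊤))ˣ) :
    (D.rk X).w a * (D.rk X).P a * ((D.rk X).w a)⁻¹ = (D.rk X).M (-↑a⁻¹) := by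
  rw [D.w_conj_P]
  rw [pow_two, _root_.mul_assoc, Units.inv_mul, _root_.mul_one]

end Sys

end Groth.Agent.RedPts
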